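import Mathlib
import Groth.Agent.QReg6.Regular
import Groth.Agent.FlatCxLib.Algebra
import Groth.Agent.Props12.FlatOver
import Groth.Prelude.Def_RegImm

/-! Powers of an ideal generated by a transversally regular sequence: relative flatness. -/

universe u

namespace Groth.Agent.TransFlatH2

open MvPolynomial

variable {A B : Type u} [CommRing A] [CommRing B] [Algebra A B]

theorem flat_gr {c : ℕ} (f : Fin c → B) (hq : CAlgX.IsQuasiRegular f) (n : ℕ)
    [Module.Flat A (B ⧸ Ideal.span (Set.range f))] :
    Module.Flat A (↥(Ideal.span (Set.range f) ^ n) ⧸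
      Submodule.comap (Ideal.span (Set.range f) ^ n).subtype (Ideal.span (Set.range f) ^ (n + 1))) := by
  classical
  set J := Ideal.span (Set.range f)
  let ι := {d : Fin c →₀ ℕ // Finsupp.degree d = n}
  let Ψ : (ι →₀ B) →ₗ[B] MvPolynomial (Fin c) B :=
    Finsupp.linearCombination B fun d => monomial d.1 1
  have hhom : ∀ g : ι →₀ B, (Ψ g).IsHomogeneous n := by
    intro g
    simp only [Ψ, Finsupp.linearCombination_apply, Finsupp.sum]
    refine IsHomogeneous.sum _ _ _ fun d _ => ?_
    rw [smul_monomial]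
    exact isHomogeneous_monomial _ d.2
  have hcoeff : ∀ (g : ι →₀ B) (d : ι), (Ψ g).coeff d.1 = g d := by
    intro g d
    induction g using Finsupp.induction_linear with
    | zero => simp
    | add g g' hg hg' => simp [map_add, hg, hg']
    | single e b =>
      simp only [Ψ, Finsupp.linearCombination_single, smul_monomial, coeff_monomial, smul_eq_mul,
        mul_one, Finsupp.single_apply]
      exact if_congr Subtype.coe_inj rfl rfl
  let ev : MvPolynomial (Fin c) B →ₗ[B] B := (aeval f).toLinearMap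
  let φ : (ι →₀ B) →ₗ[B] ↥(J ^ n) :=
    (ev.comp Ψ).codRestrict (J ^ n) fun g => by
      simpa [ev, aeval_eq_eval] using QReg6.eval_mem_pow f (hhom g)
  let ψ : (ι →₀ B) →ₗ[B] ↥(J ^ n) ⧸ Submodule.comap (J ^ n).subtype (J ^ (n + 1)) :=
    (Submodule.mkQ _).comp φ
  let π : (ι →₀ B) →ₗ[B] (ι →₀ B ⧸ J) := Finsupp.mapRange.linearMap (Submodule.mkQ J)
  have hφ : Function.Surjective φ := by
    rintro ⟨x, hx⟩
    obtain ⟨P, hP, rfl⟩ := QReg6.exists_homogeneous_eval f hx
    refine ⟨∑ d ∈ P.support.attach, Finsupp.single ⟨d.1, ?_⟩ (P.coeff d.1), ?_⟩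
    · have := hP (mem_support_iff.1 d.2)
      rwa [Finsupp.degree_eq_weight_one]
    · refine Subtype.ext ?_
      change ev (Ψ _) = eval f P
      rw [map_sum]
      have : ∑ d ∈ P.support.attach, monomial (d : Fin c →₀ ℕ) (P.coeff d.1) = P := by
        conv_rhs => rw [P.as_sum]
        exact Finset.sum_attach P.support fun d => monomial d (P.coeff d)
      simp only [Ψ, Finsupp.linearCombination_single, smul_monomial, smul_eq_mul, mul_one]
      rw [this]
      simp [ev, aeval_eq_eval]
  have hψ : Function.Surjective ψ := (Submodule.mkQ_surjective _).comp hφ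
  have hπ : Function.Surjective π :=
    Finsupp.mapRange_surjective _ (map_zero _) (Submodule.mkQ_surjective J)
  have hker : LinearMap.ker ψ = LinearMap.ker π := by
    ext g
    have h1 : g ∈ LinearMap.ker ψ ↔ eval f (Ψ g) ∈ J ^ (n + 1) := by
      simp [ψ, φ, ev, aeval_eq_eval, Submodule.Quotient.mk_eq_zero]
    have h2 : g ∈ LinearMap.ker π ↔ ∀ d, g d ∈ J := by
      simp [π, Finsupp.ext_iff, Ideal.Quotient.eq_zero_iff_mem]
    rw [h1, h2]
    refine ⟨fun h d => hcoeff g d ▸ hq n (Ψ g) (hhom g) h d.1, fun h => ?_⟩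
    simp only [Ψ, Finsupp.linearCombination_apply, Finsupp.sum, map_sum]
    refine Ideal.sum_mem _ fun d _ => ?_
    rw [smul_eq_C_mul, map_mul, eval_C, pow_succ']
    exact Ideal.mul_mem_mul (h d) (QReg6.eval_mem_pow f (isHomogeneous_monomial _ d.2))
  let e : (ι →₀ B ⧸ J) ≃ₗ[B] ↥(J ^ n) ⧸ Submodule.comap (J ^ n).subtype (J ^ (n + 1)) :=
    (π.quotKerEquivOfSurjective hπ).symm.trans
      ((Submodule.quotEquivOfEq _ _ hker.symm).trans (ψ.quotKerEquivOfSurjective hψ))
  haveI : Module.Flat A (ι →₀ B ⧸ J) :=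
    Module.Flat.of_linearEquiv (finsuppLequivDFinsupp A (ι := ι) (M := B ⧸ J))
  exact Module.Flat.of_linearEquiv (e.restrictScalars A).symm

theorem flat_pow_quotient {c : ℕ} (f : Fin c → B) (hq : CAlgX.IsQuasiRegular f)
    [Module.Flat A (B ⧸ Ideal.span (Set.range f))] (n k : ℕ) :
    Module.Flat A (↥(Ideal.span (Set.range f) ^ n) ⧸
      Submodule.comap (Ideal.span (Set.range f) ^ n).subtype (Ideal.span (Set.range f) ^ (n + k))) := by
  induction k with
  | zero =>
    haveI : Subsingleton (↥(Ideal.span (Set.range f) ^ n) ⧸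
        Submodule.comap (Ideal.span (Set.range f) ^ n).subtype (Ideal.span (Set.range f) ^ (n + 0))) := by
      rw [Submodule.Quotient.subsingleton_iff]
      ext x
      simp
    infer_instance
  | succ k ih =>
    haveI := ih
    haveI := flat_gr (A := A) f hq (n + k)
    set J := Ideal.span (Set.range f)
    have hle : J ^ (n + k) ≤ J ^ n := Ideal.pow_le_pow_right (by omega)
    let i := Submodule.mapQ (Submodule.comap (J ^ (n + k)).subtype (J ^ (n + k + 1)))
      (Submodule.comap (J ^ n).subtype (J ^ (n + (k + 1)))) (Submodule.inclusion hle) fun x hx => hx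
    let p := Submodule.mapQ (Submodule.comap (J ^ n).subtype (J ^ (n + (k + 1))))
      (Submodule.comap (J ^ n).subtype (J ^ (n + k))) LinearMap.id
      fun x (hx : x.1 ∈ J ^ (n + (k + 1))) =>
        (Ideal.pow_le_pow_right (Nat.le_succ _) hx : x.1 ∈ J ^ (n + k))
    refine FlatCxLib.flat_of_exact_mid (i.restrictScalars A) (p.restrictScalars A) ?_ ?_ ?_
    · show Function.Exact i p
      rw [LinearMap.exact_iff]
      refine le_antisymm (fun y hy => ?_) ?_
      · obtain ⟨x, rfl⟩ := Submodule.mkQ_surjective _ y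
        have h' : x ∈ Submodule.comap (J ^ n).subtype (J ^ (n + k)) :=
          (Submodule.Quotient.mk_eq_zero _).1 (LinearMap.mem_ker.1 hy)
        exact ⟨Submodule.Quotient.mk ⟨x.1, h'⟩, rfl⟩
      · rintro _ ⟨z, rfl⟩
        obtain ⟨z, rfl⟩ := Submodule.mkQ_surjective _ z
        exact (Submodule.Quotient.mk_eq_zero _).2 z.2
    · intro y
      obtain ⟨x, rfl⟩ := Submodule.mkQ_surjective _ y
      exact ⟨Submodule.Quotient.mk x, rfl⟩
    · show Function.Injective i
      rw [← LinearMap.ker_eq_bot]
      refine le_antisymm (fun z hz => ?_) bot_le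
      obtain ⟨z, rfl⟩ := Submodule.mkQ_surjective _ z
      have h' : Submodule.inclusion hle z ∈ Submodule.comap (J ^ n).subtype (J ^ (n + (k + 1))) :=
        (Submodule.Quotient.mk_eq_zero _).1 (LinearMap.mem_ker.1 hz)
      exact (Submodule.Quotient.mk_eq_zero _).2 h'

theorem flat_quotient_pow {c : ℕ} (f : Fin c → B) (hq : CAlgX.IsQuasiRegular f)
    [Module.Flat A (B ⧸ Ideal.span (Set.range f))] (n : ℕ) :
    Module.Flat A (B ⧸ Ideal.span (Set.range f) ^ n) := by
  induction n with
  | zero =>
    haveI : Subsingleton (B ⧸ Ideal.span (Set.range f) ^ 0) :=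
      Ideal.Quotient.subsingleton_iff.2 (by simp)
    infer_instance
  | succ n ih =>
    haveI := ih
    haveI := flat_gr (A := A) f hq n
    set J := Ideal.span (Set.range f)
    let i := Submodule.mapQ (Submodule.comap (J ^ n).subtype (J ^ (n + 1))) (J ^ (n + 1))
      (J ^ n).subtype fun x hx => hx
    let p := Submodule.mapQ (J ^ (n + 1)) (J ^ n) LinearMap.id fun x (hx : x ∈ J ^ (n + 1)) =>
      (Ideal.pow_le_pow_right (Nat.le_succ n) hx : x ∈ J ^ n)
    refine FlatCxLib.flat_of_exact_mid (i.restrictScalars A) (p.restrictScalars A) ?_ ?_ ?_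
    · show Function.Exact i p
      rw [LinearMap.exact_iff]
      refine le_antisymm (fun y hy => ?_) ?_
      · obtain ⟨x, rfl⟩ := Submodule.mkQ_surjective _ y
        have h' : x ∈ J ^ n := (Submodule.Quotient.mk_eq_zero _).1 (LinearMap.mem_ker.1 hy)
        exact ⟨Submodule.Quotient.mk ⟨x, h'⟩, rfl⟩
      · rintro _ ⟨z, rfl⟩
        obtain ⟨z, rfl⟩ := Submodule.mkQ_surjective _ z
        exact LinearMap.mem_ker.2 ((Submodule.Quotient.mk_eq_zero _).2 z.2)
    · intro y
      obtain ⟨x, rfl⟩ := Submodule.mkQ_surjective _ y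
      exact ⟨Submodule.Quotient.mk x, rfl⟩
    · show Function.Injective i
      rw [← LinearMap.ker_eq_bot]
      refine le_antisymm (fun z hz => ?_) bot_le
      obtain ⟨z, rfl⟩ := Submodule.mkQ_surjective _ z
      have h' : z.1 ∈ J ^ (n + 1) := (Submodule.Quotient.mk_eq_zero _).1 (LinearMap.mem_ker.1 hz)
      exact (Submodule.Quotient.mk_eq_zero _).2 h'

theorem flat_ideal_of_quotient (I : Ideal B) [Module.Flat A B] [Module.Flat A (B ⧸ I)] :
    Module.Flat A ↥I :=
  FlatCxLib.flat_of_exact_left (N₁ := ↥I) (N₂ := B) (N₃ := B ⧸ I) ((Submodule.subtype I).restrictScalars A)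
    ((Submodule.mkQ I).restrictScalars A) (LinearMap.exact_subtype_mkQ I)
    (Submodule.mkQ_surjective I) (Submodule.subtype_injective I)

theorem flat_pow {c : ℕ} (f : Fin c → B) (hq : CAlgX.IsQuasiRegular f) [Module.Flat A B]
    [Module.Flat A (B ⧸ Ideal.span (Set.range f))] (n : ℕ) :
    Module.Flat A ↥(Ideal.span (Set.range f) ^ n) :=
  haveI := flat_quotient_pow (A := A) f hq n
  flat_ideal_of_quotient _

theorem ofList_eq_span (rs : List B) : Ideal.ofList rs = Ideal.span (Set.range rs.get) := by
  rw [Ideal.ofList, Set.range_list_get]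

theorem isQuasiRegular_get {rs : List B} (h : RingTheory.Sequence.IsWeaklyRegular B rs) :
    CAlgX.IsQuasiRegular rs.get := by
  refine QReg6.isQuasiRegular_of_regular fun k a ha => ?_
  have hk := h.regular_mod_prev k k.2
  have e1 : Ideal.ofList (rs.take k) = Ideal.span (rs.get '' Set.Iio k) := by
    rw [Ideal.ofList]
    congr 1
    ext x
    constructor
    · intro hx
      obtain ⟨i, hi, rfl⟩ := List.mem_take_iff_getElem.mp hx
      exact ⟨⟨i, (lt_min_iff.mp hi).2⟩, Fin.lt_def.mpr (lt_min_iff.mp hi).1, rfl⟩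
    · rintro ⟨i, hi, rfl⟩
      exact List.mem_take_iff_getElem.mpr ⟨i, lt_min hi i.2, rfl⟩
  simp only [smul_eq_mul, Ideal.mul_top, e1, isSMulRegular_quotient_iff_mem_of_smul_mem] at hk
  exact hk a (by rwa [mul_comm])

end Groth.Agent.TransFlatH2

namespace Groth.Agent.TransFlatH2

/-- `RestrictScalars` does not change flatness when a compatible module structure is present. -/
theorem flat_restrictScalars {A B M : Type u} [CommRing A] [CommRing B] [Algebra A B]
    [AddCommGroup M] [Module A M] [Module B M] [IsScalarTower A B M] [Module.Flat A M] :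
    Module.Flat A (RestrictScalars A B M) :=
  Module.Flat.of_linearEquiv (N := RestrictScalars A B M) (M := M)
    { RestrictScalars.addEquiv A B M with
      map_smul' := fun a x => (RestrictScalars.addEquiv_map_smul A B M a x).trans
        (algebraMap_smul B a _) }

end Groth.Agent.TransFlatH2
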